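import Mathlib

/-!
# Bounds on the cyclotomic value with a small primitive part
-/

set_option autoImplicit false

open Polynomial

namespace CfsgLib.PrimPart

/-- `r` is prime to all earlier `q ^ j - 1`. -/
def Prim (q e r : ℕ) : Prop := ∀ j, 1 ≤ j → j < e → ¬ r ∣ q ^ j - 1

/-- A large primitive divisor exists. -/
def Wit (q e : ℕ) : Prop :=
  ∃ m : ℕ, m ∣ q ^ e - 1 ∧ (∀ i : ℕ, 1 ≤ i → i < e → Nat.Coprime m (q ^ i - 1)) ∧ 3 * e + 1 ≤ m

/-- The value of the cyclotomic polynomial. -/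
noncomputable def cv (n q : ℕ) : ℕ := ((cyclotomic n ℤ).eval (q : ℤ)).natAbs

theorem cv_dvd (q : ℕ) (hq : 2 ≤ q) (n : ℕ) : cv n q ∣ q ^ n - 1 := by
  have h1 : (cyclotomic n ℤ).eval (q : ℤ) ∣ (q : ℤ) ^ n - 1 := by
    have := eval_dvd (x := (q : ℤ)) (cyclotomic.dvd_X_pow_sub_one n ℤ)
    simpa using this
  have h1' : (cv n q : ℤ) ∣ ((q ^ n - 1 : ℕ) : ℤ) := by
    rw [Int.natCast_sub (Nat.one_le_pow _ _ (by omega))]
    push_cast
    exact Int.natAbs_dvd.mpr h1
  exact Int.natCast_dvd_natCast.1 h1'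

theorem order_data {q e r : ℕ} (hq : 2 ≤ q) (he : 1 ≤ e) [Fact r.Prime] (hr : r ∣ cv e q) :
    ∃ k m : ℕ, e = r ^ k * m ∧ ¬ r ∣ m ∧ m ∣ r - 1 ∧ orderOf (q : ZMod r) = m := by
  have hrp := (Fact.out : r.Prime)
  have hcast : (cyclotomic e (ZMod r)).eval (q : ZMod r) =
      (((cyclotomic e ℤ).eval (q : ℤ) : ℤ) : ZMod r) := by
    have h := cyclotomic.eval_apply (q : ℤ) e (algebraMap ℤ (ZMod r))
    simpa using h
  have hroot : (cyclotomic e (ZMod r)).IsRoot (q : ZMod r) := by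
    rw [IsRoot.def, hcast, ZMod.intCast_zmod_eq_zero_iff_dvd]
    exact Int.natCast_dvd.2 hr
  obtain ⟨k, m, hm, hekm⟩ := Nat.exists_eq_pow_mul_and_not_dvd (by omega : e ≠ 0) r hrp.ne_one
  have : NeZero (m : ZMod r) := ⟨fun h => hm ((ZMod.natCast_eq_zero_iff m r).1 h)⟩
  have hprim : IsPrimitiveRoot (q : ZMod r) m := by
    rw [hekm] at hroot
    exact isRoot_cyclotomic_prime_pow_mul_iff_of_charP.1 hroot
  have hm0 : m ≠ 0 := by rintro rfl; exact hm (dvd_zero r)
  refine ⟨k, m, hekm, hm, ?_, hprim.eq_orderOf.symm⟩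
  rw [hprim.eq_orderOf]
  exact ZMod.orderOf_dvd_card_sub_one (hprim.ne_zero hm0)

theorem order_prim {q e r : ℕ} (hq : 2 ≤ q) (he : 1 ≤ e) [Fact r.Prime] (hr : r ∣ q ^ e - 1)
    (hp : Prim q e r) : e ∣ r - 1 := by
  have h1 : ∀ j, r ∣ q ^ j - 1 ↔ (q : ZMod r) ^ j = 1 := fun j => by
    rw [← ZMod.natCast_eq_zero_iff, Nat.cast_sub (Nat.one_le_pow _ _ (by omega)), Nat.cast_pow,
      Nat.cast_one, sub_eq_zero]
  have hq0 : (q : ZMod r) ≠ 0 := fun h => by
    have := (h1 e).1 hr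
    rw [h, zero_pow (by omega)] at this
    exact zero_ne_one this
  have hord : orderOf (q : ZMod r) = e := by
    refine (orderOf_eq_iff (by omega)).2 ⟨(h1 e).1 hr, fun j hj hj0 h => hp j hj0 hj ((h1 j).2 h)⟩
  rw [← hord]
  exact ZMod.orderOf_dvd_card_sub_one hq0

theorem nonprim_facts {q e r : ℕ} (hq : 2 ≤ q) (he : 3 ≤ e) (hr : r.Prime) (hrN : r ∣ cv e q)
    (hnp : ¬ Prim q e r) :
    r ∣ e ∧ ¬ r ^ 2 ∣ cv e q ∧ ∀ s : ℕ, s.Prime → s ∣ e → s ≤ r := by
  haveI := Fact.mk hr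
  obtain ⟨k, m, hekm, hm, hmr, hord⟩ := order_data hq (by omega) hrN
  have hk : k ≠ 0 := by
    rintro rfl
    rw [pow_zero, one_mul] at hekm
    apply hnp
    intro j hj1 hj2 hd
    rw [← ZMod.natCast_eq_zero_iff, Nat.cast_sub (Nat.one_le_pow _ _ (by omega)), Nat.cast_pow,
      Nat.cast_one, sub_eq_zero, ← orderOf_dvd_iff_pow_eq_one, hord] at hd
    have := Nat.le_of_dvd (by omega) hd
    omega
  refine ⟨hekm ▸ Dvd.dvd.mul_right (dvd_pow_self r hk) m, ?_, ?_⟩
  · intro h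
    set N := (cyclotomic e ℤ).eval (q : ℤ) with hN
    set d := r ^ (k - 1) * m with hd
    have hde : e = d * r := by
      rw [hekm, hd, mul_right_comm, ← pow_succ, Nat.sub_add_cancel (Nat.one_le_iff_ne_zero.2 hk)]
    have hd0 : d ≠ 0 := by rintro h0; rw [h0, zero_mul] at hde; omega
    have hdr : d ∣ e := hde ▸ dvd_mul_right d r
    have hfac := congrArg (Polynomial.eval (q : ℤ))
      (X_pow_sub_one_mul_prod_cyclotomic_eq_X_pow_sub_one_of_dvd ℤ hdr (by omega : e ≠ 0))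
    simp only [eval_mul, eval_sub, eval_pow, eval_X, eval_one, eval_prod] at hfac
    set b : ℤ := (q : ℤ) ^ d with hb
    have hbn : (q : ℤ) ^ e = b ^ r := by rw [hb, ← pow_mul, hde]
    have hb1 : b - 1 ≠ 0 := by
      have : (1 : ℤ) < b := one_lt_pow₀ (by exact_mod_cast hq) hd0
      omega
    rw [hbn, ← geom_sum_mul b r, mul_comm (∑ i ∈ Finset.range r, b ^ i)] at hfac
    have hS := mul_left_cancel₀ hb1 hfac
    have hmem : e ∈ e.divisors \ d.divisors := by
      simp only [Finset.mem_sdiff, Nat.mem_divisors]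
      refine ⟨⟨dvd_rfl, by omega⟩, fun h => ?_⟩
      have h5 := Nat.le_of_dvd (Nat.pos_of_ne_zero hd0) h.1
      have h6 : d * 2 ≤ d * r := Nat.mul_le_mul_left d hr.two_le
      omega
    have hNS : N ∣ ∑ i ∈ Finset.range r, b ^ i := by
      rw [← hS]; exact Finset.dvd_prod_of_mem (fun i => (cyclotomic i ℤ).eval (q : ℤ)) hmem
    have hr2S : ((r : ℤ)) ^ 2 ∣ ∑ i ∈ Finset.range r, b ^ i := by
      refine dvd_trans ?_ hNS
      rw [← Int.dvd_natAbs]
      exact_mod_cast h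
    rcases hr.eq_two_or_odd' with hr2 | hodd
    · subst hr2
      have hm1 : m = 1 := Nat.dvd_one.1 hmr
      subst hm1
      have hk2 : 2 ≤ k := by
        by_contra hlt
        rw [show k = 1 by omega] at hekm; omega
      have hb2 : b = ((q : ℤ) ^ 2 ^ (k - 2)) ^ 2 := by
        rw [hb, ← pow_mul, hd, mul_one, ← pow_succ, show k - 2 + 1 = k - 1 by omega]
      rw [Finset.sum_range_succ, Finset.sum_range_one, pow_zero, pow_one, hb2] at hr2S
      have h4 := (ZMod.intCast_zmod_eq_zero_iff_dvd (1 + ((q : ℤ) ^ 2 ^ (k - 2)) ^ 2) 4).2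
        (by simpa using hr2S)
      push_cast at h4
      revert h4
      generalize ((q : ZMod 4)) ^ 2 ^ (k - 2) = x
      revert x; decide
    · have hbr : (r : ℤ) ∣ b - 1 := by
        rw [← ZMod.intCast_zmod_eq_zero_iff_dvd, hb]
        push_cast
        rw [sub_eq_zero, ← orderOf_dvd_iff_pow_eq_one, hord, hd]
        exact dvd_mul_left m _
      obtain ⟨t, ht⟩ := hbr
      have hb' : b = 1 + (r : ℤ) * t := by omega
      have h3 := odd_sq_dvd_geom_sum₂_sub (R := ℤ) (a := 1) t hodd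
      simp only [one_pow, mul_one, ← hb'] at h3
      have h4 : ((r : ℤ)) ^ 2 ∣ (r : ℤ) := (dvd_sub_right hr2S).1 h3
      have h5 : r ^ 2 ∣ r := by exact_mod_cast h4
      have := Nat.le_of_dvd hr.pos h5
      nlinarith [hr.two_le]
  · intro s hs hse
    rw [hekm, hs.dvd_mul] at hse
    rcases hse with h | h
    · exact ((Nat.prime_dvd_prime_iff_eq hs hr).1 (hs.dvd_of_dvd_pow h)).le
    · have h1 := Nat.le_of_dvd (by have := hr.two_le; omega) (h.trans hmr)
      omega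

theorem small_part {q e p : ℕ} (hq : 2 ≤ q) (he : 3 ≤ e) (hw : ¬ Wit q e) (hp : p.Prime)
    (hpe : p ∣ e) (hpmax : ∀ s : ℕ, s.Prime → s ∣ e → s ≤ p) :
    cv e q ≤ (2 * e + 1) * p := by
  classical
  set N := cv e q with hN
  have hN0 : N ≠ 0 := fun h => by
    have h1 : q ^ e - 1 = 0 := Nat.eq_zero_of_zero_dvd (h ▸ cv_dvd q hq e)
    have h2 := Nat.one_lt_pow (show e ≠ 0 by omega) (show 1 < q by omega)
    omega
  have hcop : ∀ r : ℕ, r.Prime → Prim q e r → ∀ a i, 1 ≤ i → i < e → Nat.Coprime (r ^ a) (q ^ i - 1) :=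
    fun r hr hP a i h1 h2 => Nat.Coprime.pow_left a ((hr.coprime_iff_not_dvd).2 (hP i h1 h2))
  have hprim : ∀ r : ℕ, r.Prime → r ∣ N → Prim q e r →
      (r = e + 1 ∨ r = 2 * e + 1) ∧ ¬ r ^ 2 ∣ N := by
    intro r hr hrN hP
    haveI := Fact.mk hr
    obtain ⟨t, ht⟩ := order_prim hq (by omega) (hrN.trans (cv_dvd q hq e)) hP
    have h2 := hr.two_le
    constructor
    · have ht3 : t < 3 := by
        by_contra h3
        refine hw ⟨r, hrN.trans (cv_dvd q hq e), fun i h1 h2 => ?_, ?_⟩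
        · simpa using hcop r hr hP 1 i h1 h2
        · have := Nat.mul_le_mul_left e (not_lt.1 h3); omega
      interval_cases t <;> omega
    · intro hsq
      refine hw ⟨r ^ 2, hsq.trans (cv_dvd q hq e), hcop r hr hP 2, ?_⟩
      have h3 : e ≤ r - 1 := Nat.le_of_dvd (by omega) ⟨t, ht⟩
      have h4 : e + 1 ≤ r := by omega
      nlinarith
  have hfac : ∀ r ∈ N.primeFactors, r.Prime ∧ r ∣ N := fun r hr =>
    ⟨Nat.prime_of_mem_primeFactors hr, Nat.dvd_of_mem_primeFactors hr⟩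
  have hcase : ∀ r : ℕ, r.Prime → r ∣ N → (Prim q e r ∨ r = p) ∧ ¬ r ^ 2 ∣ N := by
    intro r hr hrN
    by_cases hP : Prim q e r
    · exact ⟨Or.inl hP, (hprim r hr hrN hP).2⟩
    · obtain ⟨h1, h2, h3⟩ := nonprim_facts hq he hr hrN hP
      exact ⟨Or.inr (le_antisymm (hpmax r hr h1) (h3 p hp hpe)), h2⟩
  have hsf : Squarefree N :=
    Nat.squarefree_iff_prime_squarefree.2 fun r hr h => (hcase r hr ((dvd_mul_right r r).trans h)).2
      (by rw [pow_two]; exact h)
  rw [← Nat.prod_primeFactors_of_squarefree hsf]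
  set S := N.primeFactors.filter (fun r => r ≠ p) with hS
  have hS1 : S.card ≤ 1 := by
    rw [Finset.card_le_one]
    intro r hr s hs
    by_contra hne
    obtain ⟨hrm, hrp⟩ := Finset.mem_filter.1 hr
    obtain ⟨hsm, hsp⟩ := Finset.mem_filter.1 hs
    obtain ⟨hr1, hr2⟩ := hfac r hrm
    obtain ⟨hs1, hs2⟩ := hfac s hsm
    have hPr := ((hcase r hr1 hr2).1).resolve_right hrp
    have hPs := ((hcase s hs1 hs2).1).resolve_right hsp
    refine hw ⟨r * s, (Nat.Coprime.mul_dvd_of_dvd_of_dvd ((Nat.coprime_primes hr1 hs1).2 hne) hr2 hs2).trans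
      (cv_dvd q hq e), fun i h1 h2 => ?_, ?_⟩
    · exact Nat.Coprime.mul_left (by simpa using hcop r hr1 hPr 1 i h1 h2)
        (by simpa using hcop s hs1 hPs 1 i h1 h2)
    · rcases (hprim r hr1 hr2 hPr).1 with h | h <;> rcases (hprim s hs1 hs2 hPs).1 with h' | h' <;>
        subst h <;> subst h' <;> first | exact absurd rfl hne | nlinarith
  have hS2 : ∏ r ∈ S, r ≤ 2 * e + 1 := by
    rcases Nat.lt_or_ge S.card 1 with h0 | h0
    · rw [Finset.card_eq_zero.1 (show S.card = 0 by omega), Finset.prod_empty]; omega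
    · obtain ⟨r, hr⟩ := Finset.card_eq_one.1 (show S.card = 1 by omega)
      rw [hr, Finset.prod_singleton]
      obtain ⟨hrm, hrp⟩ := Finset.mem_filter.1 (hr ▸ Finset.mem_singleton_self r : r ∈ S)
      obtain ⟨hr1, hr2⟩ := hfac r hrm
      rcases (hprim r hr1 hr2 ((hcase r hr1 hr2).1.resolve_right hrp)).1 with h | h <;> omega
  rw [← Finset.prod_filter_mul_prod_filter_not N.primeFactors (fun r => r ≠ p)]
  refine Nat.mul_le_mul hS2 ?_
  refine le_trans (Finset.prod_le_prod_of_subset_of_one_le' (t := {p}) ?_ ?_) (by simp)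
  · intro r hr
    simpa using (Finset.mem_filter.1 hr).2
  · intro r hr _
    rw [Finset.mem_singleton.1 hr]; exact hp.one_le

theorem cv_expand {p : ℕ} (hp : p.Prime) (n : ℕ) (hpn : p ∣ n) (k q : ℕ) :
    cv (n * p ^ k) q = cv n (q ^ p ^ k) := by
  induction k generalizing n q with
  | zero => simp
  | succ k ih =>
    rw [pow_succ', ← mul_assoc, ih (n * p) (dvd_mul_of_dvd_left hpn p) q]
    unfold cv
    rw [← Polynomial.cyclotomic_expand_eq_cyclotomic hp hpn ℤ, Polynomial.expand_eval]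
    congr 2
    push_cast
    rw [← pow_mul, mul_comm]

theorem cv_mul_prime {p m : ℕ} (hp : p.Prime) (hm : ¬ p ∣ m) (Q : ℕ) :
    cv (m * p) Q * cv m Q = cv m (Q ^ p) := by
  unfold cv
  rw [← Int.natAbs_mul]
  congr 1
  have := congrArg (Polynomial.eval (Q : ℤ)) (Polynomial.cyclotomic_expand_eq_cyclotomic_mul hp hm ℤ)
  rw [Polynomial.expand_eval, Polynomial.eval_mul] at this
  push_cast
  exact this.symm

theorem cv_one (Q : ℕ) (hQ : 1 ≤ Q) : cv 1 Q = Q - 1 := by
  unfold cv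
  rw [cyclotomic_one, eval_sub, eval_X, eval_one, show ((Q : ℤ) - 1) = ((Q - 1 : ℕ) : ℤ) by omega,
    Int.natAbs_natCast]

theorem cv_two (Q : ℕ) : cv 2 Q = Q + 1 := by
  unfold cv
  rw [cyclotomic_two, eval_add, eval_X, eval_one, show ((Q : ℤ) + 1) = ((Q + 1 : ℕ) : ℤ) by omega,
    Int.natAbs_natCast]

theorem cv_le (m Q : ℕ) (hm : 1 ≤ m) (hQ : 2 ≤ Q) : cv m Q ≤ (Q + 1) ^ m.totient := by
  rcases Nat.lt_or_ge m 3 with h | h
  · interval_cases m
    · rw [cv_one Q (by omega)]; simp; omega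
    · rw [cv_two]; simp
  · have h1 := Polynomial.cyclotomic_eval_lt_add_one_pow_totient h (q := (Q : ℝ)) (by exact_mod_cast (by omega : 1 < Q))
    have hpos := Polynomial.cyclotomic_pos' m (R := ℤ) (x := (Q : ℤ)) (by omega)
    have hcast : (Polynomial.cyclotomic m ℝ).eval (Q : ℝ) =
        (((Polynomial.cyclotomic m ℤ).eval (Q : ℤ) : ℤ) : ℝ) := by
      have := Polynomial.cyclotomic.eval_apply (Q : ℤ) m (algebraMap ℤ ℝ)
      simpa using this
    rw [hcast, show (Q : ℝ) + 1 = (((Q : ℤ) + 1 : ℤ) : ℝ) by push_cast; ring, ← Int.cast_pow,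
      Int.cast_lt] at h1
    unfold cv
    zify
    rw [abs_of_pos hpos]
    exact h1.le

theorem le_cv (m Q : ℕ) (hm : 1 ≤ m) (hQ : 2 ≤ Q) : (Q - 1) ^ m.totient ≤ cv m Q := by
  rcases Nat.lt_or_ge m 2 with h | h
  · obtain rfl : m = 1 := by omega
    rw [cv_one Q (by omega)]; simp
  · exact (Polynomial.sub_one_pow_totient_lt_natAbs_cyclotomic_eval h (q := Q) (by omega)).le

theorem lower {q p k m : ℕ} (hq : 2 ≤ q) (hp : p.Prime) (hm : ¬ p ∣ m) :
    q ^ (p ^ k * (p - 2) * m.totient) ≤ cv (p ^ (k + 1) * m) q := by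
  have hm1 : 1 ≤ m := Nat.one_le_iff_ne_zero.2 fun h => hm (h ▸ dvd_zero p)
  rw [show p ^ (k + 1) * m = m * p * p ^ k by ring, cv_expand hp _ (dvd_mul_left p m),
    pow_mul, pow_mul]
  set Q := q ^ p ^ k with hQd
  have hQ : 2 ≤ Q := hq.trans (Nat.le_self_pow (pow_ne_zero k hp.ne_zero) q)
  have hp2 := hp.two_le
  have hQp : 2 ≤ Q ^ p := hQ.trans (Nat.le_self_pow hp.ne_zero Q)
  refine Nat.le_of_mul_le_mul_right ?_ (show 0 < (Q + 1) ^ m.totient by positivity)
  calc (Q ^ (p - 2)) ^ m.totient * (Q + 1) ^ m.totient = (Q ^ (p - 2) * (Q + 1)) ^ m.totient :=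
        (mul_pow _ _ _).symm
    _ ≤ (Q ^ p - 1) ^ m.totient := by
        refine Nat.pow_le_pow_left ?_ _
        have h1 : Q ^ p = Q ^ (p - 2) * (Q * Q) := by
          rw [← pow_two, ← pow_add, Nat.sub_add_cancel hp2]
        have h2 : Q + 2 ≤ Q * Q := by nlinarith
        have h3 := Nat.mul_le_mul_left (Q ^ (p - 2)) h2
        have h4 : 1 ≤ Q ^ (p - 2) := Nat.one_le_pow _ _ (by omega)
        rw [h1, Nat.mul_add, Nat.mul_one]
        rw [Nat.mul_add] at h3
        omega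
    _ ≤ cv m (Q ^ p) := le_cv m _ hm1 hQp
    _ = cv (m * p) Q * cv m Q := (cv_mul_prime hp hm Q).symm
    _ ≤ cv (m * p) Q * (Q + 1) ^ m.totient := Nat.mul_le_mul_left _ (cv_le m Q hm1 hQ)

theorem lower_two (q k : ℕ) : cv (2 ^ (k + 1)) q = q ^ 2 ^ k + 1 := by
  rw [pow_succ', cv_expand Nat.prime_two 2 dvd_rfl, cv_two]

theorem totient_sq (m : ℕ) : (m ≤ 2 * m.totient ^ 2) ∧ (Odd m → m ≤ m.totient ^ 2) := by
  induction m using Nat.recOnPrimeCoprime with
  | zero => simp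
  | prime_pow p k hp =>
    rcases Nat.eq_zero_or_pos k with rfl | hk
    · simp
    obtain ⟨k, rfl⟩ : ∃ j, k = j + 1 := ⟨k - 1, by omega⟩
    rw [Nat.totient_prime_pow_succ hp]
    rcases hp.eq_two_or_odd' with rfl | hodd
    · refine ⟨?_, fun h => ?_⟩
      · have : 1 ≤ 2 ^ k := Nat.one_le_two_pow
        rw [pow_succ]; simp; nlinarith
      · exact absurd h (by simp [Nat.even_pow])
    · have h3 : 3 ≤ p := by
        rcases Nat.lt_or_ge p 3 with h | h
        · have := hp.two_le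
          obtain rfl : p = 2 := by omega
          exact absurd hodd (by decide)
        · exact h
      obtain ⟨j, rfl⟩ : ∃ j, p = j + 1 := ⟨p - 1, by omega⟩
      have h1 : 1 ≤ (j + 1) ^ k := Nat.one_le_pow _ _ (by omega)
      have h2 : (j + 1) ^ (k + 1) ≤ ((j + 1) ^ k * (j + 1 - 1)) ^ 2 := by
        rw [pow_succ, mul_pow, Nat.add_sub_cancel]
        calc (j + 1) ^ k * (j + 1) ≤ ((j + 1) ^ k * (j + 1) ^ k) * (j * j) := by
              refine Nat.mul_le_mul (Nat.le_mul_of_pos_left _ (by omega)) ?_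
              nlinarith
          _ = _ := by ring
      exact ⟨h2.trans (by omega), fun _ => h2⟩
  | coprime a b ha hb hab iha ihb =>
    rw [Nat.totient_mul hab]
    constructor
    · rcases Nat.even_or_odd a with hae | hao
      · have hbo : Odd b := by
          rcases Nat.even_or_odd b with hbe | hbo
          · exfalso
            have := Nat.dvd_gcd hae.two_dvd hbe.two_dvd
            rw [hab] at this; omega
          · exact hbo
        calc a * b ≤ (2 * a.totient ^ 2) * b.totient ^ 2 := Nat.mul_le_mul iha.1 (ihb.2 hbo)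
          _ = _ := by ring
      · calc a * b ≤ a.totient ^ 2 * (2 * b.totient ^ 2) := Nat.mul_le_mul (iha.2 hao) ihb.1
          _ = _ := by ring
    · intro ho
      obtain ⟨h1, h2⟩ := Nat.odd_mul.1 ho
      calc a * b ≤ a.totient ^ 2 * b.totient ^ 2 := Nat.mul_le_mul (iha.2 h1) (ihb.2 h2)
        _ = _ := by ring

end CfsgLib.PrimPart
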