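import Mathlib

/-!
# Witnesses for large primitive parts of `q ^ e - 1` in the small cases
-/

set_option autoImplicit false

namespace CfsgLib.PrimPart

/-- The exceptional pairs. -/
def exc : List (ℕ × ℕ) :=
  [(2, 6), (2, 4), (2, 10), (2, 12), (2, 18), (3, 4), (3, 6), (5, 6), (2, 3), (2, 8), (2, 20), (4, 3), (4, 6)]

/-- `(q, e, m)` with `m` a primitive divisor of `q ^ e - 1`, at least `3 e + 1`. -/
def table : List (ℕ × ℕ × ℕ) :=
  [(3, 3, 13), (5, 3, 31), (6, 3, 43), (7, 3, 19),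
   (8, 3, 73), (9, 3, 91), (10, 3, 37), (11, 3, 133),
   (12, 3, 157), (13, 3, 61), (14, 3, 211), (15, 3, 241),
   (16, 3, 91), (17, 3, 307), (18, 3, 343), (19, 3, 127),
   (20, 3, 421), (21, 3, 463), (4, 4, 17), (2, 5, 31),
   (3, 5, 121), (6, 6, 31), (7, 6, 43), (8, 6, 19),
   (9, 6, 73), (10, 6, 91), (11, 6, 37), (12, 6, 133),
   (13, 6, 157), (14, 6, 61), (15, 6, 211), (16, 6, 241),
   (17, 6, 91), (18, 6, 307), (19, 6, 343), (20, 6, 127),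
   (21, 6, 421), (22, 6, 463), (23, 6, 169), (24, 6, 553),
   (25, 6, 601), (26, 6, 217), (27, 6, 703), (28, 6, 757),
   (29, 6, 271), (30, 6, 871), (31, 6, 931), (32, 6, 331),
   (33, 6, 1057), (34, 6, 1123), (35, 6, 397), (36, 6, 1261),
   (37, 6, 1333), (38, 6, 469), (39, 6, 1483), (2, 7, 127),
   (2, 9, 73), (3, 9, 757), (3, 10, 61), (4, 10, 41),
   (3, 12, 73), (4, 12, 241), (5, 12, 601), (6, 12, 1261),
   (7, 12, 2353), (8, 12, 4033), (2, 14, 43), (2, 15, 151),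
   (3, 18, 703), (4, 18, 4033), (2, 24, 241), (3, 24, 6481),
   (2, 30, 331), (2, 36, 4033), (2, 48, 65281)]

/-- Upper bounds `(e, q)`. -/
def small : List (ℕ × ℕ) :=
  [(3, 21), (4, 4), (5, 3), (6, 39), (7, 2), (8, 2), (9, 3), (10, 4), (12, 8), (14, 2), (15, 2), (18, 4), (20, 2), (24, 3), (30, 2), (36, 2), (48, 2)]

theorem table_ok : ∀ t ∈ table, t.2.2 ∣ t.1 ^ t.2.1 - 1 ∧ 3 * t.2.1 + 1 ≤ t.2.2 ∧
    ∀ i < t.2.1, 1 ≤ i → Nat.Coprime t.2.2 (t.1 ^ i - 1) := by decide +kernel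

theorem small_ok : ∀ s ∈ small, ∀ q < s.2 + 1, 2 ≤ q →
    (q, s.1) ∈ exc ∨ ∃ t ∈ table, t.1 = q ∧ t.2.1 = s.1 := by decide +kernel

end CfsgLib.PrimPart
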