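import Cfsg.Agent.Lib.PrimPart.Bound
import Cfsg.Agent.Lib.PrimPart.Table

/-!
# Size of the primitive part of `q ^ e - 1`
-/

set_option autoImplicit false

namespace CfsgLib.PrimPart

theorem grow_large : ∀ A : ℕ, 14 ≤ A → 100 * A ^ 3 + 45 * A < 27 * 2 ^ A := by
  intro A hA
  induction A, hA using Nat.le_induction with
  | base => norm_num
  | succ A hA ih =>
    rw [pow_succ 2 A]
    have h1 : 14 * 14 ≤ A * A := Nat.mul_le_mul hA hA
    nlinarith

theorem grow_three : ∀ A : ℕ, 9 ≤ A → 3 * (12 * A + 1) < 2 ^ A := by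
  intro A hA
  induction A, hA using Nat.le_induction with
  | base => norm_num
  | succ A hA ih => rw [pow_succ]; omega

set_option synthInstance.maxSize 4000 in
set_option synthInstance.maxHeartbeats 400000 in
theorem case_five : ∀ p ∈ [5, 7, 11, 13, 17, 19], ∀ k < 3, ∀ m < 38, ¬ p ∣ m →
    (∀ s ∈ [2, 3, 5, 7, 11, 13, 17, 19, 23, 29, 31, 37], s ∣ m → s < p) →
    p ^ (k + 1) * m ≤ 187 →
    2 ^ (p ^ k * (p - 2) * m.totient) ≤ (2 * (p ^ (k + 1) * m) + 1) * p →
    ∃ s ∈ small, s.1 = p ^ (k + 1) * m ∧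
      (2 * (p ^ (k + 1) * m) + 1) * p < (s.2 + 1) ^ (p ^ k * (p - 2) * m.totient) := by
  decide +kernel

set_option synthInstance.maxSize 4000 in
theorem case_three : ∀ k < 2, ∀ a < 5, 3 ≤ 3 ^ (k + 1) * 2 ^ a →
    2 ^ (3 ^ k * (2 ^ a).totient) ≤ (2 * (3 ^ (k + 1) * 2 ^ a) + 1) * 3 →
    ∃ s ∈ small, s.1 = 3 ^ (k + 1) * 2 ^ a ∧
      (2 * (3 ^ (k + 1) * 2 ^ a) + 1) * 3 < (s.2 + 1) ^ (3 ^ k * (2 ^ a).totient) := by
  decide +kernel

theorem no_witness_small {q e : ℕ} (hq : 2 ≤ q) (he : 3 ≤ e) (hw : ¬ Wit q e) :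
    ∃ s ∈ small, s.1 = e ∧ q ≤ s.2 := by
  classical
  have hne : e.primeFactors.Nonempty := Nat.nonempty_primeFactors.2 (by omega)
  obtain ⟨p, hp, hpe, hmax⟩ : ∃ p : ℕ, p.Prime ∧ p ∣ e ∧ ∀ s : ℕ, s.Prime → s ∣ e → s ≤ p :=
    ⟨e.primeFactors.max' hne, Nat.prime_of_mem_primeFactors (Finset.max'_mem _ _),
      Nat.dvd_of_mem_primeFactors (Finset.max'_mem _ _),
      fun s hs hse => Finset.le_max' _ _ (Nat.mem_primeFactors.2 ⟨hs, hse, by omega⟩)⟩
  have hN := small_part hq he hw hp hpe hmax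
  obtain ⟨k, m, hm, hekm⟩ := Nat.exists_eq_pow_mul_and_not_dvd (by omega : e ≠ 0) p hp.ne_one
  obtain ⟨k, rfl⟩ : ∃ j, k = j + 1 := by
    refine ⟨k - 1, (Nat.sub_add_cancel (Nat.one_le_iff_ne_zero.2 ?_)).symm⟩
    rintro rfl
    exact hm (by rw [pow_zero, one_mul] at hekm; rwa [← hekm])
  subst hekm
  have hm0 : m ≠ 0 := fun h => hm (h ▸ dvd_zero p)
  have hsmall : ∀ s : ℕ, s.Prime → s ∣ m → s < p := fun s hs hsm =>
    lt_of_le_of_ne (hmax s hs (dvd_mul_of_dvd_right hsm _)) fun h => hm (h ▸ hsm)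
  have hlow := (lower (k := k) hq hp hm).trans hN
  set A := p ^ k * (p - 2) * m.totient with hA
  have hA2 : 2 ^ A ≤ (2 * (p ^ (k + 1) * m) + 1) * p := (Nat.pow_le_pow_left hq A).trans hlow
  have fin : ∀ s : ℕ × ℕ, s ∈ small → s.1 = p ^ (k + 1) * m →
      (2 * (p ^ (k + 1) * m) + 1) * p < (s.2 + 1) ^ A →
      ∃ s ∈ small, s.1 = p ^ (k + 1) * m ∧ q ≤ s.2 := fun s h1 h2 h3 => by
    refine ⟨s, h1, h2, ?_⟩
    by_contra h4
    have := (Nat.pow_le_pow_left (show s.2 + 1 ≤ q by omega) A).trans hlow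
    omega
  have hp2 := hp.two_le
  rcases (show p = 2 ∨ p = 3 ∨ 5 ≤ p by
    rcases Nat.lt_or_ge p 5 with h | h
    · interval_cases p <;> first | omega | exact absurd hp (by norm_num)
    · omega) with h | h | h
  · -- `p = 2`
    rw [h] at hm hsmall hN he hmax ⊢
    have hm1 : m = 1 := by
      by_contra h1
      obtain ⟨s, hs, hsm⟩ := Nat.exists_prime_and_dvd h1
      have := hsmall s hs hsm; have := hs.two_le; omega
    subst hm1
    rw [mul_one] at hN he ⊢
    rw [lower_two] at hN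
    have hk : k < 3 := by
      by_contra hk
      have h1 : 2 ^ 2 ^ k ≤ q ^ 2 ^ k := Nat.pow_le_pow_left hq _
      have h2 : k + 5 ≤ 2 ^ k := by
        have : ∀ j, 3 ≤ j → j + 5 ≤ 2 ^ j := by
          intro j hj
          induction j, hj using Nat.le_induction with
          | base => norm_num
          | succ j _ ih => rw [pow_succ]; omega
        exact this k (by omega)
      have h3 : 2 ^ (k + 5) ≤ 2 ^ 2 ^ k := Nat.pow_le_pow_right (by norm_num) h2
      have h4 : 8 ≤ 2 ^ k := Nat.pow_le_pow_right (show 0 < 2 by norm_num) (show 3 ≤ k by omega)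
      rw [pow_add] at h3
      rw [pow_succ] at hN
      omega
    interval_cases k
    · norm_num at he
    · refine ⟨(4, 4), by decide, by norm_num, ?_⟩
      show q ≤ 4
      by_contra hq4
      have : 5 ^ 2 ^ 1 ≤ q ^ 2 ^ 1 := Nat.pow_le_pow_left (by omega) _
      norm_num at hN this; omega
    · refine ⟨(8, 2), by decide, by norm_num, ?_⟩
      show q ≤ 2
      by_contra hq4
      have : 3 ^ 2 ^ 2 ≤ q ^ 2 ^ 2 := Nat.pow_le_pow_left (by omega) _
      norm_num at hN this; omega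
  · -- `p = 3`
    obtain ⟨a, rfl⟩ : ∃ a, m = 2 ^ a := by
      refine ⟨_, Nat.eq_prime_pow_of_unique_prime_dvd hm0 fun {d} hd hdm => ?_⟩
      have := hsmall d hd hdm; have := hd.two_le; omega
    rw [h, show (3 : ℕ) - 2 = 1 from rfl, mul_one] at hA
    have h6 : p ^ (k + 1) * 2 ^ a ≤ 6 * A := by
      rw [h, hA, pow_succ]
      have h2 : 2 ^ a ≤ 2 * (2 ^ a).totient := by
        rcases Nat.eq_zero_or_pos a with rfl | ha
        · simp
        · obtain ⟨b, rfl⟩ : ∃ b, a = b + 1 := ⟨a - 1, by omega⟩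
          rw [Nat.totient_prime_pow_succ Nat.prime_two, pow_succ]; omega
      calc 3 ^ k * 3 * 2 ^ a ≤ 3 ^ k * 3 * (2 * (2 ^ a).totient) := Nat.mul_le_mul_left _ h2
        _ = _ := by ring
    have hA8 : A ≤ 8 := by
      by_contra h9
      have := grow_three A (by omega)
      rw [h] at hA2 h6
      omega
    have hk : k < 2 := by
      by_contra hk
      have h1 : 9 ≤ 3 ^ k := Nat.pow_le_pow_right (show 0 < 3 by norm_num) (show 2 ≤ k by omega)
      have h2 : 0 < (2 ^ a).totient := Nat.totient_pos.2 (by positivity)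
      have := Nat.mul_le_mul h1 (show 1 ≤ (2 ^ a).totient from h2)
      omega
    have ha : a < 5 := by
      by_contra ha
      obtain ⟨b, rfl⟩ : ∃ b, a = b + 1 := ⟨a - 1, by omega⟩
      rw [Nat.totient_prime_pow_succ Nat.prime_two] at hA
      have h1 : 16 ≤ 2 ^ b := Nat.pow_le_pow_right (show 0 < 2 by norm_num) (show 4 ≤ b by omega)
      have h2 : 1 ≤ 3 ^ k := Nat.one_le_pow _ _ (by norm_num)
      have := Nat.mul_le_mul h2 (show 16 ≤ 2 ^ b * (2 - 1) by omega)
      omega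
    have he' := he
    rw [h] at he' hA2
    rw [hA] at hA2
    obtain ⟨s, h1, h2, h3⟩ := case_three k hk a ha he' hA2
    exact fin s h1 (by rw [h]; exact h2) (by rw [h, hA]; exact h3)
  · -- `p ≥ 5`
    have hφ : 0 < m.totient := Nat.totient_pos.2 (by omega)
    have hpk : 1 ≤ p ^ k := Nat.one_le_pow _ _ (by omega)
    have h3p : 3 * p ≤ 5 * (p - 2) := by omega
    have hpA : 3 * p ≤ 5 * A := by
      have := Nat.mul_le_mul (Nat.mul_le_mul hpk (le_refl (p - 2))) (show 1 ≤ m.totient from hφ)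
      rw [hA]; omega
    have hφA : 3 * m.totient ≤ A := by
      rw [hA]
      exact Nat.mul_le_mul_right _ ((show 3 ≤ p - 2 by omega).trans (Nat.le_mul_of_pos_left _ (by omega)))
    have he9 : 9 * (p ^ (k + 1) * m) ≤ 10 * A ^ 2 := by
      calc 9 * (p ^ (k + 1) * m) = 3 * (p ^ k * (3 * p)) * m := by rw [pow_succ]; ring
        _ ≤ 3 * (p ^ k * (5 * (p - 2))) * (2 * m.totient ^ 2) :=
            Nat.mul_le_mul (Nat.mul_le_mul_left _ (Nat.mul_le_mul_left _ h3p)) (totient_sq m).1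
        _ = 10 * A * (3 * m.totient) := by rw [hA]; ring
        _ ≤ 10 * A * A := Nat.mul_le_mul_left _ hφA
        _ = _ := by ring
    have hA13 : A ≤ 13 := by
      by_contra h14
      have h1 := grow_large A (by omega)
      have h2 : (18 * (p ^ (k + 1) * m) + 9) * (3 * p) ≤ (20 * A ^ 2 + 9) * (5 * A) :=
        Nat.mul_le_mul (by omega) hpA
      have h3 : (20 * A ^ 2 + 9) * (5 * A) = 100 * A ^ 3 + 45 * A := by ring
      have h4 : (18 * (p ^ (k + 1) * m) + 9) * (3 * p) = 27 * ((2 * (p ^ (k + 1) * m) + 1) * p) := by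
        ring
      omega
    have hA169 : A ^ 2 ≤ 169 := Nat.pow_le_pow_left hA13 2
    have he187 : p ^ (k + 1) * m ≤ 187 := by omega
    have hp21 : p ≤ 21 := by omega
    have hk3 : k < 3 := by
      by_contra hk
      have h1 : 5 ^ 4 ≤ p ^ (k + 1) :=
        (Nat.pow_le_pow_left h 4).trans (Nat.pow_le_pow_right (by omega) (by omega))
      have := Nat.le_mul_of_pos_right (p ^ (k + 1)) (Nat.pos_of_ne_zero hm0)
      norm_num at h1; omega
    have hm38 : m < 38 := by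
      have h1 : 5 * m ≤ p ^ (k + 1) * m :=
        Nat.mul_le_mul_right m (h.trans (Nat.le_self_pow (by omega) p))
      omega
    have hp' : p ∈ [5, 7, 11, 13, 17, 19] := by
      interval_cases p <;> first | decide | exact absurd hp (by norm_num)
    obtain ⟨s, h1, h2, h3⟩ := case_five p hp' k hk3 m hm38 hm (fun s hs hsm => by
      refine hsmall s ?_ hsm
      fin_cases hs <;> norm_num) he187 hA2
    exact fin s h1 h2 h3

/-- Primitive divisors of `q ^ e - 1` in the exceptional cases are at most `2 e + 1`. -/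
theorem exc_bound : ∀ t ∈ exc, ∃ m₀ < 2 * t.2 + 2, 0 < m₀ ∧
    t.1 ^ t.2 - 1 ∣ (((List.range' 1 (t.2 - 1)).map fun i => t.1 ^ i - 1).prod) ^ 8 * m₀ := by
  decide +kernel

theorem exc_le {q e : ℕ} (h : (q, e) ∈ exc) {m : ℕ} (hm : m ∣ q ^ e - 1)
    (hc : ∀ i : ℕ, 1 ≤ i → i < e → Nat.Coprime m (q ^ i - 1)) : m ≤ 2 * e + 1 := by
  obtain ⟨m₀, h1, h2, h3⟩ := exc_bound _ h
  have hcop : Nat.Coprime m (((List.range' 1 (e - 1)).map fun i => q ^ i - 1).prod ^ 8) := by
    refine Nat.Coprime.pow_right 8 ?_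
    rw [Nat.coprime_list_prod_right_iff]
    intro x hx
    obtain ⟨i, hi, rfl⟩ := List.mem_map.1 hx
    rw [List.mem_range'_1] at hi
    exact hc i hi.1 (by omega)
  have := Nat.le_of_dvd h2 (hcop.dvd_of_dvd_mul_left (hm.trans h3))
  omega

theorem large_of_not_exc {q e : ℕ} (hq : 2 ≤ q) (he : 3 ≤ e) (h : (q, e) ∉ exc) : Wit q e := by
  by_contra hw
  obtain ⟨s, hs, rfl, hqs⟩ := no_witness_small hq he hw
  rcases small_ok s hs q (by omega) hq with h1 | ⟨t, ht, rfl, hte⟩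
  · exact h h1
  · obtain ⟨h1, h2, h3⟩ := table_ok t ht
    rw [hte] at h1 h2 h3
    exact hw ⟨t.2.2, h1, fun i hi1 hi2 => h3 i hi2 hi1, h2⟩

end CfsgLib.PrimPart
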